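import Cfsg.Agent.H373.OC.Chain

/-!
# `PSp_2n(p)`-modules: definitions (helper379)

`IG l` is the isometry group of the alternating form `l (x₁ y₂ - x₂ y₁)` on `K × K`; `PP 𝕜 l` says that every nonzero
module of `IG l` on which `-1` acts trivially has a nonzero vector fixed by every non-split torus of `SL_2(K)`.
-/

set_option autoImplicit false
set_option linter.unusedSectionVars false

namespace Cfsg.Agent.H379.PS

open Module Matrix Cfsg.Agent.H373.OC

universe u v w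

section

variable {K : Type u} [Field K] {p : ℕ}

/-- the alternating form -/
def al (x y : K × K) : K := x.1 * y.2 - x.2 * y.1

/-- isometries of `l (x₁ y₂ - x₂ y₁)` (additive permutations of `K × K`) -/
def IG (l : K →+ ZMod p) : Subgroup (Equiv.Perm (K × K)) where
  carrier := {g | (∀ x y, g (x + y) = g x + g y) ∧ ∀ x y, l (al (g x) (g y)) = l (al x y)}
  mul_mem' := by
    intro a b ha hb
    refine ⟨fun x y => ?_, fun x y => ?_⟩
    · rw [Equiv.Perm.mul_apply, Equiv.Perm.mul_apply, Equiv.Perm.mul_apply, hb.1, ha.1]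
    · rw [Equiv.Perm.mul_apply, Equiv.Perm.mul_apply, ha.2, hb.2]
  one_mem' := ⟨fun x y => rfl, fun x y => rfl⟩
  inv_mem' := by
    intro a ha
    have e : ∀ z, a (a⁻¹ z) = z := fun z => a.apply_symm_apply z
    refine ⟨fun x y => ?_, fun x y => ?_⟩
    · apply a.injective
      rw [ha.1, e, e, e]
    · have h := ha.2 (a⁻¹ x) (a⁻¹ y)
      rw [e, e] at h
      exact h.symm

/-- the action of a matrix -/
def mv (g : SL2 K) : Equiv.Perm (K × K) where
  toFun x := (g 0 0 * x.1 + g 0 1 * x.2, g 1 0 * x.1 + g 1 1 * x.2)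
  invFun x := (g 1 1 * x.1 - g 0 1 * x.2, - g 1 0 * x.1 + g 0 0 * x.2)
  left_inv x := by
    have h := g.2
    rw [det_fin_two] at h
    refine Prod.ext ?_ ?_
    · show g 1 1 * (g 0 0 * x.1 + g 0 1 * x.2) - g 0 1 * (g 1 0 * x.1 + g 1 1 * x.2) = x.1
      linear_combination x.1 * h
    · show - g 1 0 * (g 0 0 * x.1 + g 0 1 * x.2) + g 0 0 * (g 1 0 * x.1 + g 1 1 * x.2) = x.2
      linear_combination x.2 * h
  right_inv x := by
    have h := g.2
    rw [det_fin_two] at h
    refine Prod.ext ?_ ?_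
    · show g 0 0 * (g 1 1 * x.1 - g 0 1 * x.2) + g 0 1 * (- g 1 0 * x.1 + g 0 0 * x.2) = x.1
      linear_combination x.1 * h
    · show g 1 0 * (g 1 1 * x.1 - g 0 1 * x.2) + g 1 1 * (- g 1 0 * x.1 + g 0 0 * x.2) = x.2
      linear_combination x.2 * h

theorem mv_apply (g : SL2 K) (x : K × K) :
    mv g x = (g 0 0 * x.1 + g 0 1 * x.2, g 1 0 * x.1 + g 1 1 * x.2) := rfl

theorem mv_add (g : SL2 K) (x y : K × K) : mv g (x + y) = mv g x + mv g y := by
  refine Prod.ext ?_ ?_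
  · show g 0 0 * (x.1 + y.1) + g 0 1 * (x.2 + y.2) = g 0 0 * x.1 + g 0 1 * x.2 + (g 0 0 * y.1 + g 0 1 * y.2)
    ring
  · show g 1 0 * (x.1 + y.1) + g 1 1 * (x.2 + y.2) = g 1 0 * x.1 + g 1 1 * x.2 + (g 1 0 * y.1 + g 1 1 * y.2)
    ring

theorem al_mv (g : SL2 K) (x y : K × K) : al (mv g x) (mv g y) = al x y := by
  have h := g.2
  rw [det_fin_two] at h
  show (g 0 0 * x.1 + g 0 1 * x.2) * (g 1 0 * y.1 + g 1 1 * y.2) -
    (g 1 0 * x.1 + g 1 1 * x.2) * (g 0 0 * y.1 + g 0 1 * y.2) = x.1 * y.2 - x.2 * y.1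
  linear_combination (x.1 * y.2 - x.2 * y.1) * h

/-- `SL_2(K)` acts by isometries -/
def sl (l : K →+ ZMod p) : SL2 K →* IG l where
  toFun g := ⟨mv g, mv_add g, fun x y => by rw [al_mv]⟩
  map_one' := by
    apply Subtype.ext
    apply Equiv.ext
    intro x
    refine Prod.ext ?_ ?_
    · show (1 : K) * x.1 + 0 * x.2 = x.1
      ring
    · show (0 : K) * x.1 + 1 * x.2 = x.2
      ring
  map_mul' g h := by
    apply Subtype.ext
    apply Equiv.ext
    intro x
    have e : ∀ (i j : Fin 2), (g * h) i j = g i 0 * h 0 j + g i 1 * h 1 j := by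
      intro i j
      show (g.1 * h.1) i j = _
      rw [Matrix.mul_apply, Fin.sum_univ_two]
    show mv (g * h) x = mv g (mv h x)
    rw [mv_apply, mv_apply, mv_apply, e, e, e, e]
    refine Prod.ext ?_ ?_
    · ring
    · ring

theorem sl_apply (l : K →+ ZMod p) (g : SL2 K) (x : K × K) :
    (sl l g).1 x = (g 0 0 * x.1 + g 0 1 * x.2, g 1 0 * x.1 + g 1 1 * x.2) := rfl

end

/-- every nonzero module of `IG l` on which `-1` acts trivially has a nonzero vector fixed by every non-split torus of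
`SL_2(K)` -/
def PP (𝕜 : Type v) [Field 𝕜] {K : Type u} [Field K] [Fintype K] [DecidableEq K] {p : ℕ} (l : K →+ ZMod p) : Prop :=
  ∀ (V : Type w) [AddCommGroup V] [Module 𝕜 V] [FiniteDimensional 𝕜 V] [Nontrivial V] (ρ : Representation 𝕜 (IG l) V),
    ρ (sl l (-1)) = 1 → ∀ ε : K, ¬ IsSquare ε → ∑ y : {y : K × K // nm ε y = 1}, ρ (sl l (tM ε y)) ≠ 0

/-- the tower of fields `K` of order `p^(2^i)` with `PP` -/
def Tower (𝕜 : Type v) [Field 𝕜] (p i : ℕ) : Prop :=
  ∃ (K : Type) (_ : Field K) (_ : Fintype K) (_ : DecidableEq K) (_ : CharP K p) (l : K →+ ZMod p),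
    (∃ x, l x ≠ 0) ∧ Fintype.card K = p ^ 2 ^ i ∧ PP.{0, v, w} 𝕜 l

end Cfsg.Agent.H379.PS
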