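import Cfsg.Agent.H379.PS.Defs
import Mathlib.FieldTheory.IsAlgClosed.Basic

/-!
# Rank one lemmas (helper379)

Tori of `SL_2(K)`, `GL_2(K)` on modules in the defining characteristic, without hypothesis on unipotent elements.
-/

set_option autoImplicit false
set_option linter.unusedSectionVars false

namespace Cfsg.Agent.H379.PS

open Module Matrix Polynomial Cfsg.Agent.H373.OC

universe u v w

section

variable {K : Type u} [Field K] [Fintype K] [DecidableEq K] {k : Type v} [Field k]

theorem exists_emb (K : Type u) [Field K] [Finite K] (k : Type v) [Field k] [IsAlgClosed k] (p : ℕ) [Fact p.Prime]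
    [CharP k p] [CharP K p] : Nonempty (K →+* k) := by
  letI : Algebra (ZMod p) K := ZMod.algebra K p
  letI : Algebra (ZMod p) k := ZMod.algebra k p
  haveI : Algebra.IsAlgebraic (ZMod p) K := Algebra.IsAlgebraic.of_finite (ZMod p) K
  exact ⟨(IsAlgClosed.lift : K →ₐ[ZMod p] k).toRingHom⟩

/-- number of square roots in `k` -/
theorem card_sqrt_cast {p : ℕ} [Fact p.Prime] [CharP K p] (hp2 : p ≠ 2) (j : K →+* k) (D : K) :
    ((Fintype.card {w : K // w ^ 2 = D} : ℕ) : k) = j D ^ (Fintype.card K / 2) + 1 := by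
  have h2 : ringChar K ≠ 2 := by rw [ringChar.eq K p]; exact hp2
  have e1 : (Fintype.card {w : K // w ^ 2 = D} : ℤ) = quadraticChar K D + 1 := by
    rw [← quadraticChar_card_sqrts h2 D, Set.toFinset_card]
    rfl
  have e2 : ((Fintype.card {w : K // w ^ 2 = D} : ℕ) : K) = D ^ (Fintype.card K / 2) + 1 := by
    have e3 := congrArg (Int.cast : ℤ → K) e1
    rw [Int.cast_natCast, Int.cast_add, Int.cast_one, quadraticChar_eq_pow_of_char_ne_two' h2] at e3
    exact e3
  have e4 := congrArg j e2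
  rw [map_natCast, map_add, map_pow, map_one] at e4
  exact e4

theorem sum_eq_zero_of_const {p : ℕ} [Fact p.Prime] [CharP K p] (hp2 : p ≠ 2) (j : K →+* k) (F : K → k) (S : k)
    (h : ∀ n : K, ∑ τ, j (τ ^ 2 - 4 * n) ^ (Fintype.card K / 2) * F τ = S) : ∑ τ, F τ = 0 := by
  have hp : p.Prime := Fact.out
  have h4 : (4 : K) ≠ 0 := by
    intro h4
    rw [show (4 : K) = ((4 : ℕ) : K) by norm_num, CharP.cast_eq_zero_iff K p] at h4
    have h6 : p ∣ 2 := hp.dvd_of_dvd_pow (show p ∣ 2 ^ 2 by norm_num; exact h4)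
    exact hp2 ((Nat.prime_dvd_prime_iff_eq hp Nat.prime_two).1 h6)
  set m := Fintype.card K / 2 with hm
  have hq : 1 < Fintype.card K := Fintype.one_lt_card
  have hmq : m < Fintype.card K := Nat.div_lt_self (by omega) (by norm_num)
  have hm0 : m ≠ 0 := by omega
  let P : k[X] := ∑ τ, C (F τ) * (X + C (-(j τ ^ 2))) ^ m
  have hdeg : P.natDegree ≤ m := by
    refine natDegree_sum_le_of_forall_le _ _ fun τ _ => ?_
    refine (natDegree_C_mul_le _ _).trans ?_
    refine natDegree_pow_le.trans ?_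
    rw [natDegree_X_add_C, mul_one]
  have hP : P - C ((-1) ^ m * S) = 0 := by
    refine Polynomial.eq_zero_of_natDegree_lt_card_of_eval_eq_zero (f := fun n : K => j (4 * n)) _ ?_ ?_ ?_
    · intro a b hab
      exact mul_left_cancel₀ h4 (j.injective hab)
    · intro n
      rw [eval_sub, eval_C, eval_finsetSum]
      have h5 := h n
      have h6 : ∀ τ, eval (j (4 * n)) (C (F τ) * (X + C (-(j τ ^ 2))) ^ m) = (-1) ^ m * (j (τ ^ 2 - 4 * n) ^ m * F τ) := by
        intro τ
        rw [eval_mul, eval_C, eval_pow, eval_add, eval_X, eval_C, map_sub, map_pow]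
        rw [show j (4 * n) + -(j τ ^ 2) = (-1) * (j τ ^ 2 - j (4 * n)) by ring, mul_pow]
        ring
      rw [Finset.sum_congr rfl fun τ _ => h6 τ, ← Finset.mul_sum, h5, sub_self]
    · refine lt_of_le_of_lt (natDegree_sub_le _ _) ?_
      rw [natDegree_C]
      exact lt_of_le_of_lt (max_le hdeg (Nat.zero_le _)) hmq
  have hc : (P - C ((-1) ^ m * S)).coeff m = 0 := by rw [hP, coeff_zero]
  rw [coeff_sub, coeff_C, if_neg hm0, sub_zero, finsetSum_coeff] at hc
  rw [← hc]
  refine Finset.sum_congr rfl fun τ _ => ?_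
  rw [coeff_C_mul, coeff_X_add_C_pow, Nat.sub_self, pow_zero, Nat.choose_self, Nat.cast_one, mul_one, mul_one]

variable {V : Type w} [AddCommGroup V] [Module k V]

/-- no Steinberg module -/
theorem sum_uS_of_nonsplit_irr [IsAlgClosed k] [FiniteDimensional k V] {p : ℕ} [Fact p.Prime] [CharP k p] [CharP K p]
    (hp2 : p ≠ 2) (ρ : Representation k (SL2 K) V) (hρ : ρ.IsIrreducible) {ε : K} (hε : ¬ IsSquare ε)
    (hM : ∑ y, ρ (tM ε y) = 0) : ∑ x, ρ (uS x) = 0 := by
  have h2 : ringChar K ≠ 2 := by rw [ringChar.eq K p]; exact hp2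
  obtain ⟨j⟩ := exists_emb K k p
  let F : K → k := fun τ => LinearMap.trace k V (ρ (Cfsg.Agent.H373.OC.comp τ))
  have hF : ∀ g, LinearMap.trace k V (ρ g) = F (tr2 g) := by
    intro g
    exact trace_eq_of_tr2 hp2 ρ (by rw [Cfsg.Agent.H373.OC.comp, tr2_mk2, zero_add])
  obtain ⟨hM1, hM0⟩ := sum_nonsplit (p := p) ρ hε h2 hM hF
  have hodd : Fintype.card K % 2 = 1 := FiniteField.odd_card_of_char_ne_two h2
  have hS : ∑ τ, F τ = 0 := by
    refine sum_eq_zero_of_const hp2 j F (∑ τ, F τ) ?_
    intro n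
    by_cases hn : n = 0
    · subst hn
      refine Finset.sum_congr rfl fun τ _ => ?_
      by_cases hτ : τ = 0
      · subst hτ; rw [hM0, mul_zero]
      · rw [mul_zero, sub_zero, map_pow, ← pow_mul, show 2 * (Fintype.card K / 2) = Fintype.card K - 1 by omega, ← map_pow,
          FiniteField.pow_card_sub_one_eq_one _ hτ, map_one, one_mul]
    · have h3 := count (M := k) h2 hε hn F
      rw [hM1 n hn, add_zero, count_plus h2 hn] at h3
      have h4 : ∀ τ : K, Fintype.card {w : K // w ^ 2 = τ ^ 2 - 4 * n} • F τ =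
          j (τ ^ 2 - 4 * n) ^ (Fintype.card K / 2) * F τ + F τ := by
        intro τ
        rw [nsmul_eq_mul, card_sqrt_cast hp2 j]
        ring
      rw [Finset.sum_congr rfl fun τ _ => h4 τ, Finset.sum_add_distrib, two_nsmul] at h3
      exact add_right_cancel h3
  apply sum_eq_zero_of_trace ρ hρ
  intro g
  obtain ⟨a, b, c, d, h, rfl⟩ := exists_mk2 g
  have e1 : ∀ s : K, LinearMap.trace k V (ρ (uS s * mk2 a b c d h)) = F (s * c + (a + d)) := by
    intro s
    rw [hF]
    congr 1
    rw [uS, mk2_mul, tr2_mk2]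
    ring
  rw [Finset.sum_congr rfl fun s _ => e1 s]
  by_cases hc : c = 0
  · subst hc
    simp only [mul_zero, zero_add, Finset.sum_const, Finset.card_univ, nsmul_eq_mul]
    rw [card_cast_zero k (p := p), zero_mul]
  · rw [← hS]
    exact Fintype.sum_bijective (fun s : K => s * c + (a + d))
      ⟨fun x y hxy => mul_right_cancel₀ hc (add_right_cancel hxy), fun y => ⟨(y - (a + d)) / c, by field_simp; ring⟩⟩ _ _
      fun s => rfl

/-- **Lemma S'**: no fixed vectors of the non-split torus implies no fixed vectors of the split torus -/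
theorem split_of_nonsplit' [IsAlgClosed k] [FiniteDimensional k V] {p : ℕ} [Fact p.Prime] [CharP k p] [CharP K p]
    (hp2 : p ≠ 2) (ρ : Representation k (SL2 K) V) {ε : K} (hε : ¬ IsSquare ε)
    (hM : ∑ y, ρ (tM ε y) = 0) : ∑ a, ρ (tS a) = 0 :=
  reduce (tM ε) (tM ε) tS (card_units_ne_zero k (p := p))
    (fun _ _ _ _ σ hσ h1 _ => split_of_nonsplit_irr hp2 σ hσ hε (sum_uS_of_nonsplit_irr hp2 σ hσ hε h1) h1) _ V ρ rfl hM hM

theorem sub_sum {G : Type*} [Group G] (ρ : Representation k G V) (W : Subrepresentation ρ) {ι : Type*} [Fintype ι]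
    (s : ι → G) (h : ∑ i, ρ (s i) = 0) : ∑ i, W.toRepresentation (s i) = 0 := by
  apply LinearMap.ext
  intro w
  apply Subtype.ext
  have := LinearMap.congr_fun h (w : V)
  rw [LinearMap.sum_apply] at this ⊢
  rw [AddSubmonoidClass.coe_finsetSum]
  exact this

/-- **Lemma A'**: the non-split torus of `SL_2(p)` has fixed vectors on every nonzero module with `-1` trivial -/
theorem nonsplit_ne_zero [IsAlgClosed k] [FiniteDimensional k V] [Nontrivial V] {p : ℕ} [Fact p.Prime] [CharP k p]
    [CharP K p] (hp2 : p ≠ 2) (ρ : Representation k (SL2 K) V) (hcard : Fintype.card K = p)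
    (hneg : ρ (-1) = 1) {ε : K} (hε : ¬ IsSquare ε) : ∑ y, ρ (tM ε y) ≠ 0 := by
  intro hM
  obtain ⟨j⟩ := exists_emb K k p
  obtain ⟨W, hW⟩ := Cfsg.Agent.H373.TraceLemma.exists_irreducible ρ
  have h1 : W.toRepresentation (-1) = 1 := by
    apply LinearMap.ext
    intro w
    apply Subtype.ext
    exact LinearMap.congr_fun hneg (w : V)
  have h2 := sub_sum ρ W (tM ε) hM
  have h3 := sum_uS_of_nonsplit_irr hp2 W.toRepresentation hW hε h2
  have h4 := split_of_nonsplit_irr hp2 W.toRepresentation hW hε h3 h2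
  exact split_ne_zero_irr hp2 W.toRepresentation hW hcard j h1 h3 h4

end

end Cfsg.Agent.H379.PS
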